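import Mathlib

/-!
# The case `L = PSL₂(13)` of the extremely primitive groups, part 1 (helper342)

An abstract count: `N ⊴ G`, `N` simple of order `1092`, `|G : N| ≤ 2`. The subgroups `M ≠ G` of `G`, not abelian, which
contain the normalisers of their nontrivial fully invariant subgroups: at most `820`.
-/

set_option autoImplicit false
set_option linter.unusedSectionVars false

namespace Cfsg.Agent.H342.EP

open Subgroup

section basic

variable {G : Type*} [Group G]

/-- `X ≤ M` is invariant under the endomorphisms of `M` -/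
def Inv (M X : Subgroup G) : Prop :=
  X ≤ M ∧ ∀ φ : M →* M, ∀ m : M, (m : G) ∈ X → ((φ m : M) : G) ∈ X

/-- the subgroups to be counted -/
structure Good (M : Subgroup G) : Prop where
  nab : ¬ ∀ a ∈ M, ∀ b ∈ M, a * b = b * a
  ne : M ≠ ⊤
  norm : ∀ X : Subgroup G, Inv M X → X ≠ ⊥ → ∀ g : G, (∀ k ∈ X, g * k * g⁻¹ ∈ X) → g ∈ M

theorem Inv.conj {M X : Subgroup G} (h : Inv M X) {m : G} (hm : m ∈ M) {k : G} (hk : k ∈ X) : m * k * m⁻¹ ∈ X :=
  h.2 (MulAut.conj (⟨m, hm⟩ : M)).toMonoidHom ⟨k, h.1 hk⟩ hk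

theorem Good.eq_norm {M X : Subgroup G} (h : Good M) (hX : Inv M X) (hne : X ≠ ⊥) :
    M = normalizer (X : Set G) := by
  apply le_antisymm
  · intro m hm
    rw [mem_normalizer_iff]
    intro k
    constructor
    · exact fun hk => hX.conj hm hk
    · intro hk
      have := hX.conj (M.inv_mem hm) hk
      have e : m⁻¹ * (m * k * m⁻¹) * m⁻¹⁻¹ = k := by group
      rwa [e] at this
  · intro g hg
    exact h.norm X hX hne g fun k hk => (mem_normalizer_iff.1 hg k).1 hk

theorem inv_closure (M : Subgroup G) (n : ℕ) : Inv M (closure {m | m ∈ M ∧ m ^ n = 1}) := by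
  refine ⟨(closure_le _).2 fun x hx => hx.1, ?_⟩
  intro φ m hm
  have h1 : closure {m | m ∈ M ∧ m ^ n = 1} ≤
      (((closure {m | m ∈ M ∧ m ^ n = 1}).subgroupOf M).comap φ).map M.subtype := by
    rw [closure_le]
    rintro x ⟨hx1, hx2⟩
    refine ⟨⟨x, hx1⟩, ?_, rfl⟩
    refine subset_closure ⟨(φ ⟨x, hx1⟩).2, ?_⟩
    have h2 : (⟨x, hx1⟩ : M) ^ n = 1 := Subtype.ext hx2
    have h3 : (φ ⟨x, hx1⟩) ^ n = 1 := by rw [← map_pow, h2, map_one]
    have h4 := congrArg (fun y : M => (y : G)) h3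
    exact h4
  obtain ⟨y, hy, e⟩ := h1 hm
  have e' : y = m := Subtype.ext e
  subst e'
  exact hy

theorem closure_conj (n : ℕ) (g : G) {k : G} (hk : k ∈ closure {m : G | m ^ n = 1}) :
    g * k * g⁻¹ ∈ closure {m : G | m ^ n = 1} := by
  have h1 : closure {m : G | m ^ n = 1} ≤ (closure {m : G | m ^ n = 1}).comap (MulAut.conj g).toMonoidHom := by
    rw [closure_le]
    intro x hx
    refine subset_closure ?_
    show (g * x * g⁻¹) ^ n = 1
    rw [conj_pow, hx, mul_one, mul_inv_cancel]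
  exact h1 hk

theorem exists_sylow_eq [Finite G] {X : Subgroup G} {p n : ℕ} [hp : Fact p.Prime] (hc : Nat.card X = p ^ n)
    (hp2 : ¬ p ^ (n + 1) ∣ Nat.card G) : ∃ P : Sylow p G, (P : Subgroup G) = X := by
  obtain ⟨P, hP⟩ := (IsPGroup.of_card hc).exists_le_sylow
  refine ⟨P, (Subgroup.eq_of_le_of_card_ge hP ?_).symm⟩
  obtain ⟨m, hm⟩ := IsPGroup.iff_card.1 P.2
  rw [hc]
  have h1 : Nat.card P = Nat.card (P : Subgroup G) := rfl
  rw [h1, hm]
  apply Nat.pow_le_pow_right hp.out.pos
  by_contra hlt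
  apply hp2
  refine dvd_trans ?_ (card_subgroup_dvd_card (P : Subgroup G))
  rw [hm]
  exact pow_dvd_pow p (by omega)

theorem card_sylow_dvd [Finite G] {p a b : ℕ} [hp : Fact p.Prime] (hG : Nat.card G ∣ p ^ a * b) :
    Nat.card (Sylow p G) ∣ b := by
  obtain ⟨P⟩ : Nonempty (Sylow p G) := inferInstance
  refine dvd_trans P.card_dvd_index ?_
  have h1 : ((P : Subgroup G).index).Coprime (p ^ a) := by
    apply Nat.Coprime.pow_right
    rw [Nat.coprime_comm, Nat.Prime.coprime_iff_not_dvd hp.out]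
    exact P.not_dvd_index
  exact h1.dvd_of_dvd_mul_left (dvd_trans (index_dvd_card _) hG)

theorem card_sylow_mod [Finite G] {p : ℕ} [hp : Fact p.Prime] : Nat.card (Sylow p G) % p = 1 := by
  have h := card_sylow_modEq_one p G
  rw [Nat.ModEq, Nat.mod_eq_of_lt hp.out.one_lt] at h
  exact h

/-- the unique Sylow subgroup -/
theorem exists_unique_syl [Finite G] (K : Subgroup G) {p : ℕ} [hp : Fact p.Prime] (h1 : p ∣ Nat.card K)
    (h2 : ¬ p ^ 2 ∣ Nat.card K) (h3 : Nat.card (Sylow p K) = 1) :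
    ∃ X : Subgroup G, Nat.card X = p ∧ X ≤ K ∧ ∀ g ∈ K, g ^ p = 1 → g ∈ X := by
  have hs : Subsingleton (Sylow p K) := (Nat.card_eq_one_iff_unique.1 h3).1
  obtain ⟨x, hx⟩ := exists_prime_orderOf_dvd_card' (G := K) p h1
  have hz : Nat.card (zpowers x) = p ^ 1 := by rw [Nat.card_zpowers, hx, pow_one]
  obtain ⟨P, hP⟩ := exists_sylow_eq hz h2
  refine ⟨(P : Subgroup K).map K.subtype, ?_, ?_, ?_⟩
  · rw [hP, Nat.card_congr ((zpowers x).equivMapOfInjective _ K.subtype_injective).symm.toEquiv, hz, pow_one]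
  · rintro _ ⟨y, _, rfl⟩
    exact y.2
  · intro g hg hgp
    have h4 : IsPGroup p (zpowers (⟨g, hg⟩ : K)) := by
      intro y
      refine ⟨1, ?_⟩
      obtain ⟨y, k, rfl⟩ := y
      apply Subtype.ext
      show ((⟨g, hg⟩ : K) ^ k) ^ (p ^ 1) = 1
      rw [pow_one, ← zpow_natCast, ← zpow_mul, mul_comm, zpow_mul, zpow_natCast]
      have : (⟨g, hg⟩ : K) ^ p = 1 := Subtype.ext hgp
      rw [this, one_zpow]
    obtain ⟨R, hR⟩ := h4.exists_le_sylow
    rw [Subsingleton.elim R P] at hR
    exact ⟨⟨g, hg⟩, hR (mem_zpowers _), rfl⟩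

theorem eq_top_of_dvd {N : Type*} [Group N] [Finite N] (hs : IsSimpleGroup N) (hc : Nat.card N = 1092)
    {K : Subgroup N} (hK : 91 ∣ Nat.card K) : K = ⊤ := by
  have h1 : Nat.card K * K.index = 1092 := by rw [card_mul_index, hc]
  obtain ⟨c, hc'⟩ := hK
  have h2 : K.index ∣ 12 := by
    rw [hc'] at h1
    have h4 : 91 * (c * K.index) = 91 * 12 := by rw [← mul_assoc, h1]
    exact ⟨c, by rw [mul_comm]; exact (Nat.eq_of_mul_eq_mul_left (by norm_num) h4).symm⟩
  have h3 : K.index ≤ 12 := Nat.le_of_dvd (by norm_num) h2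
  rcases hs.eq_bot_or_eq_top_of_normal K.normalCore inferInstance with h | h
  · exfalso
    have h4 : Function.Injective (MulAction.toPermHom N (N ⧸ K)) := by
      rw [← MonoidHom.ker_eq_bot_iff, ← normalCore_eq_ker, h]
    have h5 := Subgroup.card_dvd_of_injective _ h4
    rw [hc, Nat.card_perm] at h5
    have h6 : 13 ∣ (Nat.card (N ⧸ K)).factorial := dvd_trans (by norm_num) h5
    rw [Nat.Prime.dvd_factorial (by norm_num)] at h6
    have : Nat.card (N ⧸ K) = K.index := rfl
    omega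
  · rw [eq_top_iff, ← h]
    exact normalCore_le K

/-- a group of order `12` with four Sylow `3`-subgroups -/
theorem exists_V {K : Type*} [Group K] [Finite K] (h12 : Nat.card K = 12) (h4 : Nat.card (Sylow 3 K) = 4) :
    ∃ W : Subgroup K, Nat.card W = 4 ∧ (∀ x, x ^ 4 = 1 → x ∈ W) ∧ closure {x : K | x ^ 3 = 1} = ⊤ := by
  have hp : Fact (Nat.Prime 3) := ⟨by norm_num⟩
  obtain ⟨x, hx⟩ := exists_prime_orderOf_dvd_card' (G := K) 3 (by rw [h12]; norm_num)
  have hz : Nat.card (zpowers x) = 3 ^ 1 := by rw [Nat.card_zpowers, hx, pow_one]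
  obtain ⟨P, hP⟩ := exists_sylow_eq hz (by rw [h12]; norm_num)
  have hPc : Nat.card (P : Subgroup K) = 3 := by rw [hP, hz, pow_one]
  have hn : Nat.card (normalizer ((P : Subgroup K) : Set K)) = 3 := by
    have h1 := P.card_eq_index_normalizer
    have h2 := card_mul_index (normalizer ((P : Subgroup K) : Set K))
    have h3 : (normalizer ((P : Subgroup K) : Set K)).index = 4 := h1.symm.trans h4
    rw [h3, h12] at h2
    omega
  have hne : (P : Subgroup K) = normalizer ((P : Subgroup K) : Set K) :=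
    Subgroup.eq_of_le_of_card_ge le_normalizer (by rw [hn, hPc])
  have hle : normalizer ((P : Subgroup K) : Set K) ≤ centralizer ((P : Subgroup K) : Set K) := by
    rw [← hne]
    have hcyc : IsCyclic (P : Subgroup K) := isCyclic_of_prime_card (p := 3) hPc
    intro a ha
    rw [mem_centralizer_iff]
    intro b hb
    have h5 := hcyc.isMulCommutative.is_comm.comm (⟨b, hb⟩ : (P : Subgroup K)) ⟨a, ha⟩
    exact Subtype.ext_iff.1 h5
  refine ⟨(MonoidHom.transferSylow P hle).ker, ?_, ?_, ?_⟩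
  · have h5 := (MonoidHom.ker_transferSylow_isComplement' P hle).card_mul_card
    rw [h12] at h5
    have h7 : Nat.card (MonoidHom.transferSylow P hle).ker * 3 = 12 :=
      (congrArg (fun n => Nat.card (MonoidHom.transferSylow P hle).ker * n) hPc).symm.trans h5
    omega
  · intro y hy
    rw [MonoidHom.mem_ker]
    have h5 : (MonoidHom.transferSylow P hle y) ^ 4 = 1 := by rw [← map_pow, hy, map_one]
    have h6 : (MonoidHom.transferSylow P hle y) ^ 3 = 1 := by
      have h7 := pow_card_eq_one' (x := MonoidHom.transferSylow P hle y)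
      have h8 : Nat.card P = 3 := hPc
      rwa [h8] at h7
    rw [pow_succ, h6, one_mul] at h5
    exact h5
  · have hT : (closure {x : K | x ^ 3 = 1}).Normal := ⟨fun k hk g => closure_conj 3 g hk⟩
    have hPT : (P : Subgroup K) ≤ closure {x : K | x ^ 3 = 1} := by
      intro y hy
      refine subset_closure ?_
      have h7 := pow_card_eq_one' (x := (⟨y, hy⟩ : (P : Subgroup K)))
      rw [hPc] at h7
      exact Subtype.ext_iff.1 h7
    have h8 := Sylow.normalizer_sup_eq_top' P hPT
    have h9 : normalizer ((P : Subgroup K) : Set K) ⊔ closure {x : K | x ^ 3 = 1} = ⊤ := h8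
    rw [← hne, sup_eq_right.2 hPT] at h9
    exact h9

end basic

section main

variable {G : Type*} [Group G] [Finite G] {N : Subgroup G} [hN : N.Normal]

theorem mem_of_pow (hi : N.index ≤ 2) {p : ℕ} (hp : Odd p) {g : G} (hg : g ^ p = 1) : g ∈ N := by
  have h1 : g ^ N.index ∈ N := N.pow_index_mem g
  have h0 : N.index ≠ 0 := index_ne_zero_of_finite
  have h2 : N.index = 1 ∨ N.index = 2 := by omega
  rcases h2 with h | h
  · rw [h, pow_one] at h1
    exact h1
  · rw [h] at h1
    obtain ⟨k, rfl⟩ := hp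
    have h3 : g = ((g ^ 2) ^ k)⁻¹ := by
      rw [← pow_mul, eq_inv_iff_mul_eq_one, ← pow_succ']
      exact hg
    rw [h3]
    exact N.inv_mem (N.pow_mem h1 k)

theorem Good.not_le {M : Subgroup G} (h : Good M) (hi : N.index ≤ 2) (hc : Nat.card N = 1092) : ¬ N ≤ M := by
  intro hle
  apply h.ne
  rw [eq_top_iff']
  intro g
  have hp : Fact (Nat.Prime 13) := ⟨by norm_num⟩
  have hset : {m | m ∈ M ∧ m ^ 13 = 1} = {m : G | m ^ 13 = 1} := by
    ext x
    exact ⟨fun hx => hx.2, fun hx => ⟨hle (mem_of_pow hi (by decide) hx), hx⟩⟩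
  have hI := inv_closure M 13
  rw [hset] at hI
  refine h.norm _ hI ?_ g fun k hk => closure_conj 13 g hk
  obtain ⟨x, hx⟩ := exists_prime_orderOf_dvd_card' (G := N) 13 (by rw [hc]; norm_num)
  intro hb
  have h1 : (x : G) ∈ closure {m : G | m ^ 13 = 1} := by
    refine subset_closure ?_
    have h2 := pow_orderOf_eq_one x
    rw [hx] at h2
    exact Subtype.ext_iff.1 h2
  rw [hb, mem_bot] at h1
  have h2 : x = 1 := Subtype.ext h1
  rw [h2, orderOf_one] at hx
  omega

theorem inv_of_pow {M X : Subgroup G} {p : ℕ} (hi : N.index ≤ 2) (hp : Odd p) (hc : Nat.card X = p)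
    (hX : X ≤ M ⊓ N) (h : ∀ g ∈ M ⊓ N, g ^ p = 1 → g ∈ X) : Inv M X := by
  refine ⟨hX.trans inf_le_left, fun φ m hm => ?_⟩
  have h1 : m ^ p = 1 := by
    have h2 := pow_card_eq_one' (x := (⟨m, hm⟩ : X))
    rw [hc] at h2
    have h2' : (m : G) ^ p = 1 := congrArg Subtype.val h2
    exact Subtype.ext h2'
  have h3 : (φ m) ^ p = 1 := by rw [← map_pow, h1, map_one]
  have h4 : ((φ m : M) : G) ^ p = 1 := Subtype.ext_iff.1 h3
  exact h _ ⟨(φ m).2, mem_of_pow hi hp h4⟩ h4

theorem dvd_inf {M : Subgroup G} {p : ℕ} [hp : Fact p.Prime] (hi : N.index ≤ 2) (hodd : Odd p)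
    (h : p ∣ Nat.card M) : p ∣ Nat.card (M ⊓ N : Subgroup G) := by
  obtain ⟨x, hx⟩ := exists_prime_orderOf_dvd_card' (G := M) p h
  have h1 : (x : G) ^ p = 1 := by
    have h2 := pow_orderOf_eq_one x
    rw [hx] at h2
    exact Subtype.ext_iff.1 h2
  have h4 : (x : G) ∈ M ⊓ N := ⟨x.2, mem_of_pow hi hodd h1⟩
  have h3 : orderOf (⟨x, h4⟩ : (M ⊓ N : Subgroup G)) = p :=
    (Subgroup.orderOf_coe (⟨x, h4⟩ : (M ⊓ N : Subgroup G))).symm.trans ((Subgroup.orderOf_coe x).trans hx)
  rw [← h3]
  exact orderOf_dvd_natCard _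

/-- the groups which are the normaliser of a Sylow subgroup -/
def RN (G : Type*) [Group G] (p : ℕ) : Set (Subgroup G) :=
  Set.range fun P : Sylow p G => normalizer ((P : Subgroup G) : Set G)

theorem ncard_RN {p : ℕ} : (RN G p).ncard ≤ Nat.card (Sylow p G) := by
  rw [RN, ← Set.image_univ, ← Set.ncard_univ]
  exact Set.ncard_image_le Set.finite_univ

/-- the normalisers of the Sylow `2`-subgroups of `N`, when these are divisible by `12` -/
def RV (N : Subgroup G) : Set (Subgroup G) :=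
  {M | ∃ P : Sylow 2 N, 12 ∣ Nat.card (normalizer ((P : Subgroup N) : Set N)) ∧
    M = normalizer (((P : Subgroup N).map N.subtype : Subgroup G) : Set G)}

theorem ncard_RV (hc : Nat.card N = 1092) : (RV N).ncard ≤ 91 := by
  have hp : Fact (Nat.Prime 2) := ⟨by norm_num⟩
  by_cases h : ∃ P : Sylow 2 N, 12 ∣ Nat.card (normalizer ((P : Subgroup N) : Set N))
  · obtain ⟨P, hP⟩ := h
    have h1 : RV N ⊆ Set.range fun P : Sylow 2 N =>
        normalizer (((P : Subgroup N).map N.subtype : Subgroup G) : Set G) := by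
      rintro _ ⟨P, _, rfl⟩
      exact ⟨P, rfl⟩
    refine (Set.ncard_le_ncard h1 (Set.toFinite _)).trans ?_
    rw [← Set.image_univ]
    refine (Set.ncard_image_le Set.finite_univ).trans ?_
    rw [Set.ncard_univ, P.card_eq_index_normalizer]
    have h2 := card_mul_index (normalizer ((P : Subgroup N) : Set N))
    rw [hc] at h2
    have h3 := Nat.le_of_dvd Nat.card_pos hP
    have h4 : 12 * (normalizer ((P : Subgroup N) : Set N)).index ≤ 1092 := by
      rw [← h2]
      exact Nat.mul_le_mul_right _ h3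
    show (normalizer ((P : Subgroup N) : Set N)).index ≤ 91
    omega
  · have h1 : RV N = ∅ := by
      rw [Set.eq_empty_iff_forall_notMem]
      rintro _ ⟨P, hP, rfl⟩
      exact h ⟨P, hP⟩
    rw [h1, Set.ncard_empty]
    omega

theorem good_mem (hs : IsSimpleGroup N) (hc : Nat.card N = 1092) (hi : N.index ≤ 2) {M : Subgroup G} (h : Good M) :
    M ∈ RN G 13 ∪ RN G 7 ∪ RN G 3 ∪ RV N ∪ Set.range fun P : Sylow 2 G => (P : Subgroup G) := by
  have p13 : Fact (Nat.Prime 13) := ⟨by norm_num⟩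
  have p7 : Fact (Nat.Prime 7) := ⟨by norm_num⟩
  have p3 : Fact (Nat.Prime 3) := ⟨by norm_num⟩
  have p2 : Fact (Nat.Prime 2) := ⟨by norm_num⟩
  have hG : Nat.card G ∣ 2184 := by
    have h1 := card_mul_index N
    rw [hc] at h1
    have h0 : N.index ≠ 0 := index_ne_zero_of_finite
    have h2 : N.index = 1 ∨ N.index = 2 := by omega
    rcases h2 with h2 | h2
    · rw [h2] at h1
      rw [← h1]
      norm_num
    · rw [h2] at h1
      rw [← h1]
  have hnd : ∀ {k : ℕ}, ¬ k ∣ 2184 → ¬ k ∣ Nat.card G := fun hk h1 => hk (h1.trans hG)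
  have hKd : Nat.card (M ⊓ N : Subgroup G) ∣ 1092 := by
    rw [← hc]
    exact card_dvd_of_le inf_le_right
  have hndK : ∀ {k : ℕ}, ¬ k ∣ 1092 → ¬ k ∣ Nat.card (M ⊓ N : Subgroup G) := fun hk h1 => hk (h1.trans hKd)
  -- the case of a unique Sylow subgroup
  have key : ∀ p : ℕ, ∀ [Fact p.Prime], Odd p → p ∣ Nat.card (M ⊓ N : Subgroup G) → ¬ p ^ 2 ∣ 1092 →
      ¬ p ^ 2 ∣ 2184 → Nat.card (Sylow p (M ⊓ N : Subgroup G)) = 1 → M ∈ RN G p := by
    intro p hp hodd hd hd1 hd2 hone
    obtain ⟨X, hX1, hX2, hX3⟩ := exists_unique_syl _ hd (hndK hd1) hone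
    have hne : X ≠ ⊥ := by
      intro e
      rw [e, card_bot] at hX1
      exact hp.out.one_lt.ne hX1
    have h1 := h.eq_norm (inv_of_pow hi hodd hX1 hX2 hX3) hne
    obtain ⟨P, hP⟩ := exists_sylow_eq (G := G) (X := X) (p := p) (n := 1) (by rw [hX1, pow_one]) (hnd hd2)
    exact ⟨P, by rw [h1, ← hP]⟩
  by_cases h13 : 13 ∣ Nat.card (M ⊓ N : Subgroup G)
  · have h1 : Nat.card (Sylow 13 (M ⊓ N : Subgroup G)) ∣ 84 := card_sylow_dvd (a := 1) (by norm_num; exact hKd)
    have h2 : Nat.card (Sylow 13 (M ⊓ N : Subgroup G)) % 13 = 1 := card_sylow_mod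
    have h3 : ∀ n ∈ Nat.divisors 84, n % 13 = 1 → n = 1 ∨ n = 14 := by decide
    rcases h3 _ (Nat.mem_divisors.2 ⟨h1, by norm_num⟩) h2 with h4 | h4
    · exact Or.inl (Or.inl (Or.inl (Or.inl (key 13 (by decide) h13 (by norm_num) (by norm_num) h4))))
    · exfalso
      obtain ⟨P⟩ : Nonempty (Sylow 13 (M ⊓ N : Subgroup G)) := inferInstance
      have h5 : 14 ∣ Nat.card (M ⊓ N : Subgroup G) := by
        rw [← h4]
        exact P.card_dvd_index.trans (index_dvd_card _)
      have h6 : 91 ∣ Nat.card (M ⊓ N : Subgroup G) := by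
        have : (91 : ℕ) ∣ Nat.lcm 14 13 := by decide
        exact this.trans (Nat.lcm_dvd h5 h13)
      have h7 : Nat.card ((M ⊓ N : Subgroup G).subgroupOf N) = Nat.card (M ⊓ N : Subgroup G) :=
        Nat.card_congr (subgroupOfEquivOfLe inf_le_right).toEquiv
      rw [← h7] at h6
      have h8 := eq_top_of_dvd hs hc h6
      rw [subgroupOf_eq_top] at h8
      exact h.not_le hi hc (h8.trans inf_le_left)
  by_cases h7 : 7 ∣ Nat.card (M ⊓ N : Subgroup G)
  · have hK84 : Nat.card (M ⊓ N : Subgroup G) ∣ 7 ^ 1 * 12 := by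
      have h1 : (Nat.card (M ⊓ N : Subgroup G)).Coprime 13 := by
        rw [Nat.coprime_comm, Nat.Prime.coprime_iff_not_dvd p13.out]
        exact h13
      exact h1.dvd_of_dvd_mul_left (m := 13) (by norm_num; exact hKd)
    have h1 : Nat.card (Sylow 7 (M ⊓ N : Subgroup G)) ∣ 12 := card_sylow_dvd (a := 1) hK84
    have h2 : Nat.card (Sylow 7 (M ⊓ N : Subgroup G)) % 7 = 1 := card_sylow_mod
    have h3 : ∀ n ∈ Nat.divisors 12, n % 7 = 1 → n = 1 := by decide
    have h4 := h3 _ (Nat.mem_divisors.2 ⟨h1, by norm_num⟩) h2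
    exact Or.inl (Or.inl (Or.inl (Or.inr (key 7 (by decide) h7 (by norm_num) (by norm_num) h4))))
  have hK12 : Nat.card (M ⊓ N : Subgroup G) ∣ 3 ^ 1 * 4 := by
    have h1 : (Nat.card (M ⊓ N : Subgroup G)).Coprime (13 * 7) := by
      apply Nat.Coprime.mul_right
      · rw [Nat.coprime_comm, Nat.Prime.coprime_iff_not_dvd p13.out]
        exact h13
      · rw [Nat.coprime_comm, Nat.Prime.coprime_iff_not_dvd p7.out]
        exact h7
    exact h1.dvd_of_dvd_mul_left (m := 13 * 7) (by norm_num; exact hKd)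
  by_cases h3 : 3 ∣ Nat.card (M ⊓ N : Subgroup G)
  · have h1 : Nat.card (Sylow 3 (M ⊓ N : Subgroup G)) ∣ 4 := card_sylow_dvd (a := 1) hK12
    have h2 : Nat.card (Sylow 3 (M ⊓ N : Subgroup G)) % 3 = 1 := card_sylow_mod
    have h5 : ∀ n ∈ Nat.divisors 4, n % 3 = 1 → n = 1 ∨ n = 4 := by decide
    rcases h5 _ (Nat.mem_divisors.2 ⟨h1, by norm_num⟩) h2 with h4 | h4
    · exact Or.inl (Or.inl (Or.inr (key 3 (by decide) h3 (by norm_num) (by norm_num) h4)))
    · refine Or.inl (Or.inr ?_)
      obtain ⟨P⟩ : Nonempty (Sylow 3 (M ⊓ N : Subgroup G)) := inferInstance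
      have h6 : 4 ∣ Nat.card (M ⊓ N : Subgroup G) := by
        rw [← h4]
        exact P.card_dvd_index.trans (index_dvd_card _)
      have h8 : Nat.card (M ⊓ N : Subgroup G) = 12 := by
        have h9 : (12 : ℕ) ∣ Nat.card (M ⊓ N : Subgroup G) := by
          have : (12 : ℕ) ∣ Nat.lcm 4 3 := by decide
          exact this.trans (Nat.lcm_dvd h6 h3)
        exact Nat.dvd_antisymm (hK12.trans (by norm_num)) h9
      obtain ⟨W, hW1, hW2, hW3⟩ := exists_V h8 h4
      -- `K` is the closure of the elements of order 3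
      have hT : M ⊓ N = closure {m | m ∈ M ∧ m ^ 3 = 1} := by
        apply le_antisymm
        · have e1 : (⊤ : Subgroup (M ⊓ N : Subgroup G)).map (M ⊓ N : Subgroup G).subtype = M ⊓ N := by
            rw [← MonoidHom.range_eq_map, range_subtype]
          rw [← hW3, MonoidHom.map_closure] at e1
          rw [← e1]
          apply Subgroup.closure_mono
          rintro _ ⟨y, hy, rfl⟩
          exact ⟨(mem_inf.1 y.2).1, Subtype.ext_iff.1 hy⟩
        · rw [closure_le]
          rintro x ⟨hx1, hx2⟩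
          exact ⟨hx1, mem_of_pow hi (by decide) hx2⟩
      let V : Subgroup G := W.map (M ⊓ N : Subgroup G).subtype
      have hVK : V ≤ M ⊓ N := by
        rintro _ ⟨y, _, rfl⟩
        exact y.2
      have hVc : Nat.card V = 4 := by
        rw [← hW1]
        exact Nat.card_congr (W.equivMapOfInjective _ (subtype_injective _)).symm.toEquiv
      have hVI : Inv M V := by
        refine ⟨hVK.trans inf_le_left, fun φ m hm => ?_⟩
        have e1 : m ^ 4 = 1 := by
          have h2 := pow_card_eq_one' (x := (⟨m, hm⟩ : V))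
          rw [hVc] at h2
          have h2' : (m : G) ^ 4 = 1 := congrArg Subtype.val h2
          exact Subtype.ext h2'
        have e3 : (φ m) ^ 4 = 1 := by rw [← map_pow, e1, map_one]
        have e4 : ((φ m : M) : G) ^ 4 = 1 := Subtype.ext_iff.1 e3
        have e5 : ((φ m : M) : G) ∈ M ⊓ N := by
          rw [hT]
          refine (inv_closure M 3).2 φ m ?_
          rw [← hT]
          exact hVK hm
        exact ⟨⟨_, e5⟩, hW2 _ (Subtype.ext e4), rfl⟩
      have hVne : V ≠ ⊥ := by
        intro e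
        rw [e, card_bot] at hVc
        omega
      have hM := h.eq_norm hVI hVne
      have hVN : Nat.card (V.subgroupOf N) = 4 := by
        rw [← hVc]
        exact Nat.card_congr (subgroupOfEquivOfLe (hVK.trans inf_le_right)).toEquiv
      obtain ⟨P, hP⟩ := exists_sylow_eq (G := N) (X := V.subgroupOf N) (p := 2) (n := 2) (by rw [hVN]; norm_num)
        (by rw [hc]; norm_num)
      refine ⟨P, ?_, ?_⟩
      · have e1 : (M ⊓ N : Subgroup G).subgroupOf N ≤ normalizer ((P : Subgroup N) : Set N) := by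
          intro y hy
          rw [mem_subgroupOf] at hy
          have hy1 : (y : G) ∈ normalizer (V : Set G) := by
            rw [← hM]
            exact (mem_inf.1 hy).1
          rw [mem_normalizer_iff] at hy1 ⊢
          intro z
          rw [hP]
          exact hy1 z
        have e2 : Nat.card ((M ⊓ N : Subgroup G).subgroupOf N) = 12 := by
          rw [← h8]
          exact Nat.card_congr (subgroupOfEquivOfLe inf_le_right).toEquiv
        rw [← e2]
        exact card_dvd_of_le e1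
      · rw [hP, subgroupOf_map_subtype, inf_of_le_left (hVK.trans inf_le_right)]
        exact hM
  · refine Or.inr ?_
    have hMd : Nat.card M ∣ 8 := by
      have h1 : (Nat.card M).Coprime (13 * 7 * 3) := by
        apply Nat.Coprime.mul_right
        · apply Nat.Coprime.mul_right
          · rw [Nat.coprime_comm, Nat.Prime.coprime_iff_not_dvd p13.out]
            exact fun hd => h13 (dvd_inf hi (by decide) hd)
          · rw [Nat.coprime_comm, Nat.Prime.coprime_iff_not_dvd p7.out]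
            exact fun hd => h7 (dvd_inf hi (by decide) hd)
        · rw [Nat.coprime_comm, Nat.Prime.coprime_iff_not_dvd p3.out]
          exact fun hd => h3 (dvd_inf hi (by decide) hd)
      refine h1.dvd_of_dvd_mul_left (m := 13 * 7 * 3) ?_
      norm_num
      exact (card_subgroup_dvd_card M).trans hG
    have h1 : Nat.card M = 2 ^ 3 := by
      have h2 : ∀ n ∈ Nat.divisors 8, n = 1 ∨ n = 2 ∨ n = 4 ∨ n = 2 ^ 3 := by decide
      rcases h2 _ (Nat.mem_divisors.2 ⟨hMd, by norm_num⟩) with h4 | h4 | h4 | h4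
      · exfalso
        apply h.nab
        rw [card_eq_one] at h4
        rw [h4]
        intro a ha b hb
        rw [mem_bot] at ha hb
        rw [ha, hb]
      · exfalso
        apply h.nab
        have hcyc : IsCyclic M := isCyclic_of_prime_card (p := 2) h4
        intro a ha b hb
        exact Subtype.ext_iff.1 (hcyc.isMulCommutative.is_comm.comm (⟨a, ha⟩ : M) ⟨b, hb⟩)
      · exfalso
        apply h.nab
        have hcom := IsPGroup.isMulCommutative_of_card_eq_prime_sq (p := 2) (G := M) (by rw [h4]; norm_num)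
        intro a ha b hb
        exact Subtype.ext_iff.1 (hcom.is_comm.comm (⟨a, ha⟩ : M) ⟨b, hb⟩)
      · exact h4
    obtain ⟨P, hP⟩ := exists_sylow_eq (G := G) (X := M) (p := 2) (n := 3) h1 (hnd (by norm_num))
    exact ⟨P, hP⟩

theorem card_good_le (hs : IsSimpleGroup N) (hc : Nat.card N = 1092) (hi : N.index ≤ 2) :
    {M : Subgroup G | Good M}.ncard ≤ 820 := by
  have p13 : Fact (Nat.Prime 13) := ⟨by norm_num⟩
  have p7 : Fact (Nat.Prime 7) := ⟨by norm_num⟩
  have p3 : Fact (Nat.Prime 3) := ⟨by norm_num⟩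
  have p2 : Fact (Nat.Prime 2) := ⟨by norm_num⟩
  have hG : Nat.card G ∣ 2184 := by
    have h1 := card_mul_index N
    rw [hc] at h1
    have h0 : N.index ≠ 0 := index_ne_zero_of_finite
    have h2 : N.index = 1 ∨ N.index = 2 := by omega
    rcases h2 with h2 | h2
    · rw [h2] at h1
      rw [← h1]
      norm_num
    · rw [h2] at h1
      rw [← h1]
  have c13 : (RN G 13).ncard ≤ 14 := by
    refine ncard_RN.trans ?_
    have h1 : Nat.card (Sylow 13 G) ∣ 168 := card_sylow_dvd (a := 1) (by norm_num; exact hG)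
    have h3 : ∀ n ∈ Nat.divisors 168, n % 13 = 1 → n ≤ 14 := by decide
    exact h3 _ (Nat.mem_divisors.2 ⟨h1, by norm_num⟩) card_sylow_mod
  have c7 : (RN G 7).ncard ≤ 78 := by
    refine ncard_RN.trans ?_
    have h1 : Nat.card (Sylow 7 G) ∣ 312 := card_sylow_dvd (a := 1) (by norm_num; exact hG)
    have h3 : ∀ n ∈ Nat.divisors 312, n % 7 = 1 → n ≤ 78 := by decide
    exact h3 _ (Nat.mem_divisors.2 ⟨h1, by norm_num⟩) card_sylow_mod
  have c3 : (RN G 3).ncard ≤ 364 := by
    refine ncard_RN.trans ?_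
    have h1 : Nat.card (Sylow 3 G) ∣ 728 := card_sylow_dvd (a := 1) (by norm_num; exact hG)
    have h3 : ∀ n ∈ Nat.divisors 728, n % 3 = 1 → n ≤ 364 := by decide
    exact h3 _ (Nat.mem_divisors.2 ⟨h1, by norm_num⟩) card_sylow_mod
  have c2 : (Set.range fun P : Sylow 2 G => (P : Subgroup G)).ncard ≤ 273 := by
    rw [← Set.image_univ]
    refine (Set.ncard_image_le Set.finite_univ).trans ?_
    rw [Set.ncard_univ]
    have h1 : Nat.card (Sylow 2 G) ∣ 273 := card_sylow_dvd (a := 3) (by norm_num; exact hG)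
    exact Nat.le_of_dvd (by norm_num) h1
  have cV := ncard_RV (N := N) hc
  have hsub : {M : Subgroup G | Good M} ⊆
      RN G 13 ∪ RN G 7 ∪ RN G 3 ∪ RV N ∪ Set.range fun P : Sylow 2 G => (P : Subgroup G) :=
    fun M hM => good_mem hs hc hi hM
  refine (Set.ncard_le_ncard hsub (Set.toFinite _)).trans ?_
  refine (Set.ncard_union_le _ _).trans ?_
  have e1 := Set.ncard_union_le (RN G 13 ∪ RN G 7 ∪ RN G 3) (RV N)
  have e2 := Set.ncard_union_le (RN G 13 ∪ RN G 7) (RN G 3)
  have e3 := Set.ncard_union_le (RN G 13) (RN G 7)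
  omega

end main

end Cfsg.Agent.H342.EP
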