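import Cfsg.Agent.H284.EP.TForm
import Cfsg.Agent.H419.EP.Soc
import Cfsg.Agent.H342.EP.Good
import Cfsg.Agent.LieClassical.FieldTransfer
import Cfsg.Agent.S0813
import Cfsg.Agent.S0265
import Cfsg.Agent.SmallSimple.PSLTwoPart
import Cfsg.Agent.ClassicalGeometry.PSL2Basic

/-!
# The case `L = PSL₂(13)` of the extremely primitive groups (helper342)

* `good_of` : the two point stabilisers `A ∩ A^x` are good subgroups of `A` (`EP/Good.lean`);
* `index_le_good` : `|Q : A| ≤ (number of good subgroups of A)²`;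
* `l213`, `l213_soc` : `A` with a normal subgroup `N ≅ PSL₂(13)`, `C_A(N) = 1`: `|Q : A| ≤ 820² ≤ 10⁶`.
-/

set_option autoImplicit false
set_option linter.unusedSectionVars false

namespace Cfsg.Agent.H342.EP

open Subgroup Cfsg.Agent.H284

theorem card_psl13 : Nat.card (Matrix.ProjectiveSpecialLinearGroup (Fin 2) (ZMod 13)) = 1092 := by
  have : Fact (Nat.Prime 13) := ⟨by norm_num⟩
  have h := Cfsg.Agent.SmallSimple.PSLTwoPart.card_psl_two_odd (F := ZMod 13) (by rw [ZMod.card]; decide)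
  rw [ZMod.card] at h
  omega

theorem card_aut13 : Nat.card (MulAut (Matrix.ProjectiveSpecialLinearGroup (Fin 2) (ZMod 13))) = 2184 := by
  have : Fact (Nat.Prime 13) := ⟨by norm_num⟩
  rw [Cfsg.Agent.S0813.result 13 1 le_rfl (by rw [ZMod.card, pow_one]) 2 le_rfl (fun _ => by norm_num),
    Cfsg.Agent.S0265.result, Cfsg.Agent.ClassicalGeometry.PSL2Basic.card_SL2, ZMod.card]
  norm_num

section

variable {Q : Type*} [Group Q] [Finite Q] {A : Subgroup Q} {Γ : Subgroup (MulAut Q)} (h : EPT A Γ) {N : Subgroup Q}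
  (hNA : N ≤ A) (hn : ∀ a ∈ A, ∀ n ∈ N, a * n * a⁻¹ ∈ N) (hsN : IsSimpleGroup N)
  (hC : ∀ a ∈ A, (∀ n ∈ N, a * n = n * a) → a = 1)

include h hNA hn hsN hC in
/-- the two point stabilisers are good -/
theorem good_of {x : Q} (hx : x ∉ A) : Good ((A ⊓ cj x A : Subgroup Q).subgroupOf A) := by
  refine ⟨?_, ?_, ?_⟩
  · intro hab
    obtain ⟨K, h1, h2, h3, h4⟩ := h.abM0 x hx fun a ha b hb =>
      congrArg (fun y : A => (y : Q)) (hab ⟨a, (mem_inf.1 ha).1⟩ ha ⟨b, (mem_inf.1 hb).1⟩ hb)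
    have hKA : ∀ a ∈ A, ∀ k ∈ K, a * k * a⁻¹ ∈ K := fun a ha k hk => h2 _ ((h.conj a).2 ha) k hk
    have hKn : (K.subgroupOf N).Normal := ⟨fun k hk n => hKA n (hNA n.2) k hk⟩
    rcases hsN.eq_bot_or_eq_top_of_normal _ hKn with e | e
    · apply h3
      rw [Subgroup.eq_bot_iff_forall]
      intro k hk
      apply hC k (h1 hk)
      intro n hn'
      have h5 : k * n * k⁻¹ * n⁻¹ ∈ N := N.mul_mem (hn k (h1 hk) n hn') (N.inv_mem hn')
      have h6 : k * n * k⁻¹ * n⁻¹ ∈ K := by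
        have e1 : k * n * k⁻¹ * n⁻¹ = k * (n * k⁻¹ * n⁻¹) := by group
        rw [e1]
        exact K.mul_mem hk (hKA n (hNA hn') _ (K.inv_mem hk))
      have h7 : (⟨_, h5⟩ : N) ∈ K.subgroupOf N := h6
      rw [e, mem_bot] at h7
      have h8 : k * n * k⁻¹ * n⁻¹ = 1 := congrArg (fun y : N => (y : Q)) h7
      rw [mul_inv_eq_one, mul_inv_eq_iff_eq_mul] at h8
      exact h8
    · rw [subgroupOf_eq_top] at e
      obtain ⟨y, hy⟩ := exists_ne (1 : N)
      apply hy
      apply Subtype.ext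
      exact hC y (hNA y.2) fun n hn' => h4 y (e y.2) n (e hn')
  · intro e
    rw [subgroupOf_eq_top] at e
    apply hx
    apply h.selfnorm
    intro a ha
    have h1 : A = cj x A := Subgroup.eq_of_le_of_card_ge (e.trans inf_le_right) (card_cj x A).le
    have h2 := conj_mem_cj (x := x) ha
    rwa [← h1] at h2
  · intro X hX hne g hg
    refine mem_subgroupOf.2 ⟨g.2, ?_⟩
    refine h.norm_aut hx (K := X.map A.subtype) ?_ ?_ ?_ g.2 ?_
    · rintro _ ⟨k, hk, rfl⟩
      exact hX.1 hk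
    · intro σ hσ
      rintro _ ⟨k, hk, rfl⟩
      let φ : ((A ⊓ cj x A : Subgroup Q).subgroupOf A) →* ((A ⊓ cj x A : Subgroup Q).subgroupOf A) :=
        { toFun := fun y => ⟨⟨σ (y : A), (mem_inf.1 (hσ _ y.2)).1⟩, hσ _ y.2⟩
          map_one' := Subtype.ext (Subtype.ext (map_one σ))
          map_mul' := fun y z => Subtype.ext (Subtype.ext (map_mul σ _ _)) }
      exact ⟨_, hX.2 φ ⟨k, hX.1 hk⟩ hk, rfl⟩
    · rw [Ne, Subgroup.map_eq_bot_iff_of_injective _ A.subtype_injective]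
      exact hne
    · rintro _ ⟨k, hk, rfl⟩
      exact ⟨_, hg k hk, rfl⟩

include h hNA hn hsN hC in
theorem index_le_good : A.index ≤ {M : Subgroup A | Good M}.ncard ^ 2 := by
  refine h.index_le.trans (Nat.pow_le_pow_left ?_ 2)
  refine Set.ncard_le_ncard_of_injOn (fun M => M.subgroupOf A) ?_ ?_ (Set.toFinite _)
  · rintro _ ⟨x, hx, rfl⟩
    exact good_of h hNA hn hsN hC hx
  · rintro _ ⟨x, _, rfl⟩ _ ⟨y, _, rfl⟩ e
    have e' : (A ⊓ cj x A : Subgroup Q).subgroupOf A = (A ⊓ cj y A : Subgroup Q).subgroupOf A := e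
    have h1 := congrArg (fun M : Subgroup A => M.map A.subtype) e'
    simp only [subgroupOf_map_subtype] at h1
    rwa [inf_of_le_left inf_le_left, inf_of_le_left inf_le_left] at h1

end

/-- **S3499, `L = PSL₂(13)`** (task 5946). -/
theorem l213 {Q : Type*} [Group Q] [Finite Q] {A : Subgroup Q} {Γ : Subgroup (MulAut Q)} (h : EPT A Γ)
    {N : Subgroup Q} (hNA : N ≤ A) (hn : ∀ a ∈ A, ∀ n ∈ N, a * n * a⁻¹ ∈ N)
    (e : N ≃* Matrix.ProjectiveSpecialLinearGroup (Fin 2) (ZMod 13))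
    (hC : ∀ a ∈ A, (∀ n ∈ N, a * n = n * a) → a = 1) : A.index ≤ 10 ^ 6 := by
  have hF13 : Fact (Nat.Prime 13) := ⟨by norm_num⟩
  have hsL : IsSimpleGroup (Matrix.ProjectiveSpecialLinearGroup (Fin 2) (ZMod 13)) :=
    Matrix.ProjectiveSpecialLinearGroup.rank_two_simple (by rw [Nat.card_zmod]; norm_num)
  have hsN : IsSimpleGroup N := e.isSimpleGroup
  have hc : Nat.card N = 1092 := by rw [Nat.card_congr e.toEquiv, card_psl13]
  have hN' : (N.subgroupOf A).Normal := ⟨fun k hk a => hn a a.2 k hk⟩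
  let f : N.subgroupOf A ≃* N := subgroupOfEquivOfLe hNA
  have hc' : Nat.card (N.subgroupOf A) = 1092 := by rw [Nat.card_congr f.toEquiv, hc]
  have hs' : IsSimpleGroup (N.subgroupOf A) := f.isSimpleGroup
  have hle : Nat.card A ≤ 2184 := by
    have hS : Cfsg.Agent.H419.EP.HasSoc A (Matrix.ProjectiveSpecialLinearGroup (Fin 2) (ZMod 13)) :=
      ⟨N, hNA, hn, hC, ⟨e⟩⟩
    have h2 := hS.card_le
    rwa [card_aut13] at h2
  have hi : (N.subgroupOf A).index ≤ 2 := by
    have h1 := card_mul_index (N.subgroupOf A)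
    rw [hc'] at h1
    omega
  have h1 := card_good_le hs' hc' hi
  exact (index_le_good h hNA hn hsN hC).trans ((Nat.pow_le_pow_left h1 2).trans (by norm_num))

/-- **S3499, `L = PSL₂(13)`**, with `HasSoc`, for all fields with 13 elements. -/
theorem l213_soc {F : Type*} [Field F] (hF : Nat.card F = 13) {Q : Type*} [Group Q] [Finite Q] {A : Subgroup Q}
    {Γ : Subgroup (MulAut Q)} (h : EPT A Γ)
    (hS : Cfsg.Agent.H419.EP.HasSoc A (Matrix.ProjectiveSpecialLinearGroup (Fin 2) F)) : A.index ≤ 10 ^ 6 := by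
  have : Finite F := Nat.finite_of_card_ne_zero (by rw [hF]; norm_num)
  have : Fintype F := Fintype.ofFinite F
  have hF' : Fintype.card F = 13 := by rw [← Nat.card_eq_fintype_card, hF]
  have hF13 : Fact (Nat.Prime 13) := ⟨by norm_num⟩
  have f := Cfsg.Agent.LieClassical.FieldTransfer.pslCongr (ι := Fin 2) (ZMod.ringEquivOfPrime F (p := 13)
    (by norm_num) hF').symm
  obtain ⟨N, h1, h2, h3, ⟨e⟩⟩ := hS
  exact l213 h h1 h2 (e.trans f) h3

end Cfsg.Agent.H342.EP
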